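import Groth.Agent.SymAlg.VAmplePn
import Groth.Agent.ProjMor.Segre
import Groth.Agent.CurveRR.Zero
import Groth.Agent.W7Hull.FlatTwist
import Groth.Agent.ParaFLib.Ext
import Groth.Agent.CohFinite.ProjSpace
import Mathlib.GroupTheory.CosetCover

/-!
Over an infinite field a very ample invertible module has a section vanishing at a rational point and
at none of finitely many other points.
-/

set_option autoImplicit false
set_option linter.style.haveILetI false
set_option backward.isDefEq.respectTransparency false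
set_option backward.isDefEq.respectTransparency.types false

universe u

open CategoryTheory CategoryTheory.Limits AlgebraicGeometry TopologicalSpace Opposite
open Groth.Agent Groth.Agent.CurveRR
open Groth.Agent.QC (res resO res_res res_self res_smul resO_resO resO_self app_res)
open TMul (IsGen homOf val_homOf)
open ProjMor (pz chart ratio ev chartOver)

noncomputable section

namespace Groth.Agent.SecAvoid

attribute [local instance] secMod

variable {X : Scheme.{u}} {L : X.Modules}

/-- The evaluation of a coefficient decides generation. -/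
theorem mem_genLocus_iff_eval {U : X.Opens} {e : Γ(L, U)} (he : IsGen e) {t : Γ(L, ⊤)} {c : Γ(X, U)}
    (hc : res L le_top t = c • e) {x : X} (hx : x ∈ U) :
    x ∈ CohB1.genLocus L (homOf t) ↔ (X.evaluation U x hx).hom c ≠ 0 := by
  rw [TMul.mem_genLocus_iff_isUnit _ he (by rw [val_homOf, hc]) hx, ← X.mem_basicOpen c x hx]
  exact (X.evaluation_ne_zero_iff_mem_basicOpen x hx c).symm

variable (k : Type u) [Field k] [X.Over (Spec (CommRingCat.of k))]

theorem eval_cst {U : X.Opens} {x : X} (hx : x ∈ U) (a : k) :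
    (X.evaluation U x hx).hom (cst k X U a) = Curv2.resMap k X x a :=
  congrArg (X.residue x).hom (TopCat.Presheaf.germ_res_apply X.presheaf (homOfLE (le_top : U ≤ ⊤)) x hx _)

/-- The sections which do not generate at a point. -/
def vanSub (hL : PicF.IsInvertible L) (x : X) : Submodule k Γ(L, ⊤) where
  carrier := {t | x ∉ CohB1.genLocus L (homOf t)}
  add_mem' {a b} ha hb := by
    obtain ⟨D, g, hx, hg⟩ := TMul.exists_isGen hL x
    obtain ⟨ca, hca⟩ := (hg D le_rfl).2 (res L le_top a)
    obtain ⟨cb, hcb⟩ := (hg D le_rfl).2 (res L le_top b)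
    change ca • res L le_rfl g = _ at hca
    change cb • res L le_rfl g = _ at hcb
    rw [res_self] at hca hcb
    simp only [Set.mem_setOf_eq, mem_genLocus_iff_eval hg hca.symm hx, mem_genLocus_iff_eval hg hcb.symm hx,
      mem_genLocus_iff_eval hg (show res L le_top (a + b) = (ca + cb) • g by rw [map_add, add_smul, hca, hcb]) hx,
      ne_eq, not_not] at ha hb ⊢
    rw [map_add, ha, hb, add_zero]
  zero_mem' := by
    obtain ⟨D, g, hx, hg⟩ := TMul.exists_isGen hL x
    simp only [Set.mem_setOf_eq, mem_genLocus_iff_eval hg (c := (0 : Γ(X, D))) (by rw [map_zero, zero_smul]) hx,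
      map_zero, ne_eq, not_true_eq_false, not_false_eq_true]
  smul_mem' r a ha := by
    obtain ⟨D, g, hx, hg⟩ := TMul.exists_isGen hL x
    obtain ⟨ca, hca⟩ := (hg D le_rfl).2 (res L le_top a)
    change ca • res L le_rfl g = _ at hca
    rw [res_self] at hca
    simp only [Set.mem_setOf_eq, mem_genLocus_iff_eval hg hca.symm hx, ne_eq, not_not] at ha
    simp only [Set.mem_setOf_eq, mem_genLocus_iff_eval hg
      (show res L le_top (r • a) = (resO X le_top (cst k X ⊤ r) * ca) • g by
        rw [show (r • a : Γ(L, ⊤)) = cst k X ⊤ r • a from rfl, res_smul, mul_smul, hca]) hx,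
      map_mul, ha, mul_zero, ne_eq, not_true_eq_false, not_false_eq_true]

theorem mem_vanSub (hL : PicF.IsInvertible L) (x : X) (t : Γ(L, ⊤)) :
    t ∈ vanSub k hL x ↔ x ∉ CohB1.genLocus L (homOf t) := Iff.rfl

theorem isInvertible_of_veryAmple (hL : RelAmple.IsRelVeryAmplePn (X ↘ Spec (CommRingCat.of k)) L) :
    PicF.IsInvertible L := by
  obtain ⟨n, i, -, -, ⟨φ⟩⟩ := hL
  exact ParaFLib.isInvertible_of_iso φ.symm (PicLoc.isInvertible_pullback i (W7Hull.isInvertible_twistOver_one n _))

theorem exists_mem_chartZ (n : ℕ) (y : CohB1.ProjSpace n (ULift.{u} ℤ)) : ∃ j, y ∈ chart n j := by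
  obtain ⟨⟨j⟩, hj⟩ := CohFinite.cov_X n (ULift.{u} ℤ) y
  exact ⟨j, (ProjectiveSpectrum.mem_basicOpen _ _ y).mpr hj⟩

/-- A section through a rational point and not through another point. -/
theorem exists_section_separating (hL : RelAmple.IsRelVeryAmplePn (X ↘ Spec (CommRingCat.of k)) L)
    {x : X} (hx : Function.Surjective (Curv2.resMap k X x)) {y : X} (hy : y ≠ x) :
    ∃ t : Γ(L, ⊤), x ∉ CohB1.genLocus L (homOf t) ∧ y ∈ CohB1.genLocus L (homOf t) := by
  classical
  obtain ⟨n, i, hi, hif, ⟨φ⟩⟩ := hL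
  obtain ⟨s, hs⟩ := ProjMor.exists_coordinate_sections i φ
  haveI := hi
  by_contra! hno
  obtain ⟨j, hj⟩ : ∃ j, i x ∈ chartOver n j (⊤ : (Spec (CommRingCat.of k)).Opens) := by
    obtain ⟨j, hj⟩ := exists_mem_chartZ n (pz n _ (i x))
    exact ⟨j, hj, trivial⟩
  let U : X.Opens := i ⁻¹ᵁ chartOver n j (⊤ : (Spec (CommRingCat.of k)).Opens)
  have hUs : U ≤ (i ≫ pz n _) ⁻¹ᵁ chart n j := fun z hz => hz.1
  have hgU : IsGen (res L (le_top : U ≤ ⊤) (s j)) := by
    have h := (ProjMor.isGen_homOf (s j)).res (V := U) (by rw [(hs j).1]; exact hUs)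
    rwa [res_res] at h
  let c : Fin (n + 1) → Γ(X, U) := fun l =>
    resO X hUs (ev (i ≫ pz n _) (chart n j) ((i ≫ pz n _) ⁻¹ᵁ chart n j) le_rfl (ratio n j l))
  have hc : ∀ l, res L le_top (s l) = c l • res L le_top (s j) := fun l => by
    have h := congrArg (res L hUs) ((hs j).2 l)
    rw [res_smul, res_res, res_res] at h
    exact h.symm
  have hxU : x ∈ U := hj
  choose a ha using fun l => hx ((X.evaluation U x hxU).hom (c l))
  let t : Fin (n + 1) → Γ(L, ⊤) := fun l => s l - cst k X ⊤ (a l) • s j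
  have ht : ∀ l, res L le_top (t l) = (c l - cst k X U (a l)) • res L (le_top : U ≤ ⊤) (s j) := fun l => by
    rw [map_sub, res_smul, hc, sub_smul]
    exact congrArg (c l • _ - · • _) (resO_resO le_top le_top _)
  have htx : ∀ l, x ∉ CohB1.genLocus L (homOf (t l)) := fun l h => by
    rw [mem_genLocus_iff_eval hgU (ht l) hxU, map_sub, eval_cst, ha, sub_self] at h
    exact h rfl
  have hty : ∀ l, y ∉ CohB1.genLocus L (homOf (t l)) := fun l => hno _ (htx l)
  have hyU : y ∈ U := by
    refine ⟨?_, trivial⟩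
    show y ∈ (i ≫ pz n _) ⁻¹ᵁ chart n j
    rw [← (hs j).1]
    by_contra hyj
    obtain ⟨j', hj'⟩ := exists_mem_chartZ n (pz n _ (i y))
    have hL' : PicF.IsInvertible L :=
      ParaFLib.isInvertible_of_iso φ.symm (PicLoc.isInvertible_pullback i (W7Hull.isInvertible_twistOver_one n _))
    have h1 : t j' + cst k X ⊤ (a j') • s j ∈ vanSub k hL' y :=
      add_mem (hty j') (Submodule.smul_mem _ (a j') hyj)
    rw [sub_add_cancel, mem_vanSub, (hs j').1] at h1
    exact h1 hj'
  have hcy : ∀ l, (X.evaluation U y hyU).hom (c l) = Curv2.resMap k X y (a l) := fun l => by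
    have h := hty l
    rw [mem_genLocus_iff_eval hgU (ht l) hyU, map_sub, eval_cst, not_not] at h
    exact sub_eq_zero.mp h
  have hV : IsAffineOpen (chartOver n j (⊤ : (Spec (CommRingCat.of k)).Opens)) :=
    ProjMor.isAffineOpen_chartOver n j (isAffineOpen_top _)
  let G : Subring Γ(X, U) :=
    { carrier := {g | ∃ a : k, (X.evaluation U x hxU).hom g = Curv2.resMap k X x a ∧
        (X.evaluation U y hyU).hom g = Curv2.resMap k X y a}
      mul_mem' := by
        rintro p q ⟨a, h1, h2⟩ ⟨b, h3, h4⟩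
        exact ⟨a * b, by rw [map_mul, map_mul, h1, h3], by rw [map_mul, map_mul, h2, h4]⟩
      one_mem' := ⟨1, by rw [map_one, map_one], by rw [map_one, map_one]⟩
      add_mem' := by
        rintro p q ⟨a, h1, h2⟩ ⟨b, h3, h4⟩
        exact ⟨a + b, by rw [map_add, map_add, h1, h3], by rw [map_add, map_add, h2, h4]⟩
      zero_mem' := ⟨0, by rw [map_zero, map_zero], by rw [map_zero, map_zero]⟩
      neg_mem' := by
        rintro p ⟨a, h1, h2⟩
        exact ⟨-a, by rw [map_neg, map_neg, h1], by rw [map_neg, map_neg, h2]⟩ }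
  have hG : ∀ g, (i.app (chartOver n j (⊤ : (Spec (CommRingCat.of k)).Opens))).hom g ∈ G := fun g => by
    have hg := (SymAlg.chartOver_generated n j (isAffineOpen_top (Spec (CommRingCat.of k)))).ge (Subring.mem_top g)
    revert g
    show Subring.closure _ ≤ G.comap _
    rw [Subring.closure_le]
    rintro g (⟨b, rfl⟩ | ⟨l, rfl⟩)
    · obtain ⟨b, rfl⟩ := (ConcreteCategory.bijective_of_isIso (Scheme.ΓSpecIso (CommRingCat.of k)).inv).2 b
      have hb : (i.app (chartOver n j ⊤)).hom
          (((CohB1.ProjSpaceOver.toBase n _).appLE ⊤ (chartOver n j ⊤) inf_le_right).hom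
            ((Scheme.ΓSpecIso (CommRingCat.of k)).inv.hom b)) = cst k X U b := by
        rw [← Scheme.Hom.appLE_eq_app, ← CommRingCat.comp_apply, Scheme.Hom.appLE_comp_appLE]
        show ev (i ≫ CohB1.ProjSpaceOver.toBase n _) ⊤ U (fun _ _ => trivial) _ = resO X le_top (Coh.toGlobal (X ↘ Spec (CommRingCat.of k)) b)
        have e : ∀ q : X ⟶ Spec (CommRingCat.of k),
            ev q ⊤ U (fun _ _ => trivial) ((Scheme.ΓSpecIso (CommRingCat.of k)).inv.hom b) =
              resO X le_top (Coh.toGlobal q b) := fun q => by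
          show (q.appLE ⊤ U _).hom _ = resO X le_top ((q.appTop).hom ((Scheme.ΓSpecIso (CommRingCat.of k)).inv.hom b))
          rw [Scheme.Hom.appLE]
          rfl
        rw [show i ≫ CohB1.ProjSpaceOver.toBase n _ = X ↘ Spec (CommRingCat.of k) from hif]
        exact e _
      show (i.app _).hom _ ∈ G
      rw [hb]
      exact ⟨b, eval_cst k hxU b, eval_cst k hyU b⟩
    · have hl : (i.app (chartOver n j ⊤)).hom
          (((pz n (Spec (CommRingCat.of k))).appLE (chart n j) (chartOver n j ⊤) inf_le_left).hom (ratio n j l)) = c l := by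
        rw [← Scheme.Hom.appLE_eq_app, ← CommRingCat.comp_apply, Scheme.Hom.appLE_comp_appLE]
        exact (ProjMor.ev_res (i ≫ pz n _) le_rfl hUs (ratio n j l)).symm
      show (i.app _).hom _ ∈ G
      rw [hl]
      exact ⟨a l, (ha l).symm, hcy l⟩
  refine hy (hi.isEmbedding.injective ?_)
  have hpr : hV.primeIdealOf ⟨i y, hyU⟩ = hV.primeIdealOf ⟨i x, hxU⟩ := by
    refine PrimeSpectrum.ext (Ideal.ext fun g => ?_)
    have key : ∀ (z : X) (hz : z ∈ U), g ∈ (hV.primeIdealOf ⟨i z, hz⟩).asIdeal ↔
        (X.evaluation U z hz).hom ((i.app (chartOver n j ⊤)).hom g) = 0 := fun z hz => by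
      refine Iff.trans ?_ (X.evaluation_eq_zero_iff_notMem_basicOpen z hz _).symm
      rw [← Scheme.preimage_basicOpen,
        show z ∈ i ⁻¹ᵁ (CohB1.ProjSpaceOver n _).basicOpen g ↔ i z ∈ (CohB1.ProjSpaceOver n _).basicOpen g from Iff.rfl]
      have h2 : hV.fromSpec (hV.primeIdealOf ⟨i z, hz⟩) = i z := hV.fromSpec_primeIdealOf ⟨i z, hz⟩
      conv_rhs => rw [← h2]
      exact ((not_congr (SetLike.ext_iff.mp (hV.fromSpec_preimage_basicOpen g) (hV.primeIdealOf ⟨i z, hz⟩))).trans
        not_not).symm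
    obtain ⟨a, h1, h2⟩ := hG g
    rw [key y hyU, key x hxU, h1, h2, map_eq_zero, map_eq_zero]
  have h := congrArg hV.fromSpec hpr
  rwa [hV.fromSpec_primeIdealOf, hV.fromSpec_primeIdealOf] at h

/-- Over an infinite field finitely many points can be avoided at once. -/
theorem exists_section_avoiding [Infinite k] (hL : RelAmple.IsRelVeryAmplePn (X ↘ Spec (CommRingCat.of k)) L)
    {x : X} (hx : Function.Surjective (Curv2.resMap k X x)) {ι : Type*} [Finite ι] (pts : ι → X)
    (hne : ∀ i, pts i ≠ x) :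
    ∃ s : Coh.structureModule X ⟶ L, x ∉ CohB1.genLocus L s ∧ ∀ i, pts i ∈ CohB1.genLocus L s := by
  have hinv := isInvertible_of_veryAmple k hL
  let V := vanSub k hinv x
  by_contra! hno
  obtain ⟨i, hi⟩ := Subspace.exists_eq_top_of_iUnion_eq_univ
    (p := fun i => (vanSub k hinv (pts i)).comap V.subtype) (Set.eq_univ_of_forall fun v => by
      obtain ⟨i, hi⟩ := hno (homOf v.1) v.2
      exact Set.mem_iUnion.mpr ⟨i, hi⟩)
  obtain ⟨t, htx, hty⟩ := exists_section_separating k hL hx (hne i)
  exact (hi.ge (Submodule.mem_top (x := (⟨t, htx⟩ : V)))) hty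

end Groth.Agent.SecAvoid
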