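import Groth.Agent.SecAvoid.Basic
import Groth.Agent.SymAlg.PnOfFT
import Groth.Agent.SymAlg.BundleCrit

/-!
Over an infinite field a module very ample relative to the base has a section generating at finitely many
given points.
-/

set_option autoImplicit false
set_option linter.style.haveILetI false
set_option backward.isDefEq.respectTransparency false
set_option backward.isDefEq.respectTransparency.types false

universe u

open CategoryTheory CategoryTheory.Limits AlgebraicGeometry TopologicalSpace Opposite
open Groth.Agent Groth.Agent.CurveRR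
open TMul (IsGen homOf val_homOf)

noncomputable section

namespace Groth.Agent.SecAvoid

attribute [local instance] secMod

variable (k : Type u) [Field k] {X : Scheme.{u}} [X.Over (Spec (CommRingCat.of k))] {L : X.Modules}

theorem isInvertible_of_relVeryAmple {Y : Scheme.{u}} (f : X ⟶ Y) (h : RelProj.IsRelVeryAmple f L) :
    PicF.IsInvertible L := by
  obtain ⟨E, hE, 𝒮, j, hj, P, p, ch, -, O1, lam, hO1, i, -, -, ⟨e⟩⟩ := h
  haveI : E.IsQuasicoherent := hE
  exact ParaFLib.isInvertible_of_iso e.symm (PicLoc.isInvertible_pullback i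
    (RelTilde.isInvertible_of_isGenDegOne ((RelTilde.isRelTwist_iff 𝒮 1 O1 lam).mp hO1) (SymAlg.isGenDegOne_sym hj)))

theorem exists_section_generating [Infinite k] (hL : RelAmple.IsRelVeryAmplePn (X ↘ Spec (CommRingCat.of k)) L)
    {ι : Type*} [Finite ι] (y : ι → X) :
    ∃ s : Coh.structureModule X ⟶ L, ∀ i, y i ∈ CohB1.genLocus L s := by
  have hinv := isInvertible_of_veryAmple k hL
  by_contra! hno
  obtain ⟨i, hi⟩ := Subspace.exists_eq_top_of_iUnion_eq_univ
    (p := fun i => vanSub k hinv (y i)) (Set.eq_univ_of_forall fun v => by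
      obtain ⟨i, hi⟩ := hno (homOf v)
      exact Set.mem_iUnion.mpr ⟨i, hi⟩)
  obtain ⟨n, j, -, -, ⟨φ⟩⟩ := hL
  obtain ⟨s, hs⟩ := ProjMor.exists_coordinate_sections j φ
  obtain ⟨l, hl⟩ := exists_mem_chartZ n ((j ≫ ProjMor.pz n _) (y i))
  exact (hi.ge (Submodule.mem_top (x := s l))) ((hs l).1.ge hl)

end Groth.Agent.SecAvoid
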